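import Cfsg.Agent.H613.KKL.Defs
import Cfsg.Agent.KFacts.J3
import Cfsg.Agent.KFacts.J2.Facts
import Cfsg.Agent.J2Type.ThreeF

/-!
# S4546, rows `J₂`, `J₃` (helper921)

* `D2'` : a normal 2-subgroup of the centralizer of an involution conjugate into `D` has exponent 2 and order at most 8
* `E_J2`, `E_J3`
-/

set_option autoImplicit false

namespace Cfsg.Agent.H921.KKL

open Cfsg Subgroup Cfsg.Agent.H613.KKL Cfsg.Agent.J2Type Cfsg.Agent.J2Type.Model Cfsg.Agent.J2Type.Base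
open Cfsg.Agent.J2Type.SPFacts Cfsg.Agent.J2Type.CStruct Cfsg.Agent.J2Type.CentU

universe u

theorem D2' {S : Type u} [Group S] {D : Subgroup S} {x : S} (h : Cfg0 D x) {a z : S} (ha : a ∈ D)
    (hza : IsConj z a) {N : Subgroup S} (hN2 : IsPGroup 2 N) (hNz : N ≤ centralizer ({z} : Set S))
    (hNn : ∀ c ∈ centralizer ({z} : Set S), ∀ n ∈ N, c * n * c⁻¹ ∈ N) :
    (∀ n ∈ N, n * n = 1) ∧ Nat.card N ≤ 8 := by
  obtain ⟨g, rfl⟩ := isConj_iff.1 hza
  have hC : ∀ c ∈ centralizer ((zpowers (g * z * g⁻¹) : Subgroup S) : Set S), g⁻¹ * c * g ∈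
      centralizer ({z} : Set S) := by
    intro c hc
    have h1 := mem_centralizer_iff.1 hc _ (mem_zpowers _)
    rw [mem_centralizer_singleton_iff]
    calc g⁻¹ * c * g * z = g⁻¹ * (c * (g * z * g⁻¹)) * g := by group
      _ = g⁻¹ * (g * z * g⁻¹ * c) * g := by rw [h1]
      _ = z * (g⁻¹ * c * g) := by group
  have h1 := h.rad (zpowers (g * z * g⁻¹)) (zpowers_le.2 ha) (N.map (MulAut.conj g).toMonoidHom) (hN2.map _) ?_ ?_
  · have hinj : Nat.card (N.map (MulAut.conj g).toMonoidHom) = Nat.card N :=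
      card_map_of_injective (MulAut.conj g).injective
    have hD8 := h.e8.card
    have hfin : Finite D := Nat.finite_of_card_ne_zero (by rw [hD8]; norm_num)
    refine ⟨fun n hn => ?_, ?_⟩
    · have h2 := h.e8.inv _ (h1 (mem_map_of_mem _ hn))
      have h3 : (MulAut.conj g) (n * n) = 1 := by
        rw [map_mul]
        exact h2
      exact (MulAut.conj g).injective (h3.trans (map_one _).symm)
    · rw [← hinj, ← hD8]
      exact Nat.le_of_dvd Nat.card_pos (card_dvd_of_le h1)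
  · rintro _ ⟨n, hn, rfl⟩
    rw [mem_centralizer_iff]
    intro y hy
    obtain ⟨k, rfl⟩ := mem_zpowers_iff.1 hy
    have h2 : Commute z n := (mem_centralizer_singleton_iff.1 (hNz hn)).symm
    have h3 : Commute (g * z * g⁻¹) (g * n * g⁻¹) := by
      show g * z * g⁻¹ * (g * n * g⁻¹) = g * n * g⁻¹ * (g * z * g⁻¹)
      calc g * z * g⁻¹ * (g * n * g⁻¹) = g * (z * n) * g⁻¹ := by group
        _ = g * (n * z) * g⁻¹ := by rw [h2.eq]
        _ = g * n * g⁻¹ * (g * z * g⁻¹) := by group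
    exact (h3.zpow_left k).eq
  · rintro c hc _ ⟨n, hn, rfl⟩
    have h2 := hNn _ (hC c hc) n hn
    refine ⟨_, h2, ?_⟩
    show g * (g⁻¹ * c * g * n * (g⁻¹ * c * g)⁻¹) * g⁻¹ = c * (g * n * g⁻¹) * c⁻¹
    group

/-- the model of `2^{1+4}_-.A₅` -/
theorem no_model {S : Type u} [Group S] [Finite S] {D : Subgroup S} {x : S} (h : Cfg0 D x) {a z : S} (ha : a ∈ D)
    (hza : IsConj z a) {Q : Subgroup (centralizer ({z} : Set S))} {v : Fin 5 → centralizer ({z} : Set S)}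
    {ρ : centralizer ({z} : Set S) →* SP} {z' : centralizer ({z} : Set S)}
    (M : IsModel Q z' v ρ) : False := by
  have h1 := D2' h ha hza (N := Q.map (centralizer ({z} : Set S)).subtype)
    ((KFacts.J2.Facts.isPGroup_Q M).map _) ?_ ?_
  · have h2 := h1.1 _ (mem_map_of_mem _ (Q.mul_mem (M.v_mem 0) (M.v_mem 1)))
    have h3 : (v 0 * v 1) * (v 0 * v 1) = 1 := Subtype.ext h2
    have h4 := M.v_anti 0 1 (by decide)
    have h5 : (v 0 * v 1) * (v 0 * v 1) = z' * (v 1 * (v 0 * v 0) * v 1) := by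
      calc (v 0 * v 1) * (v 0 * v 1) = (v 0 * v 1) * v 0 * v 1 := by group
        _ = z' * (v 1 * v 0) * v 0 * v 1 := by rw [h4]
        _ = z' * (v 1 * (v 0 * v 0) * v 1) := by group
    rw [h5, M.v_sq, mul_one, M.v_sq, mul_one] at h3
    exact M.z_ne h3
  · rintro _ ⟨q, -, rfl⟩
    exact q.2
  · rintro c hc _ ⟨q, hq, rfl⟩
    have hn := J3Type.OneClass.normal_Q M
    exact ⟨_, hn.conj_mem q hq ⟨c, hc⟩, rfl⟩

theorem exists_mem {S : Type u} [Group S] {D : Subgroup S} {x : S} (h : Cfg0 D x) :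
    ∃ a ∈ D, a ≠ 1 ∧ a * a = 1 ∧ ∀ b ∈ D, b ≠ 1 → IsConj a b := by
  have hne : D ≠ ⊥ := by
    intro h1
    have := h.e8.card
    rw [h1, card_bot] at this
    norm_num at this
  obtain ⟨⟨a, ha⟩, ha1⟩ := Subgroup.ne_bot_iff_exists_ne_one.1 hne
  have ha1' : a ≠ 1 := fun h => ha1 (Subtype.ext h)
  obtain ⟨y, hy⟩ := h.seven
  refine ⟨a, ha, ha1', h.e8.inv a ha, fun b hb hb1 => ?_⟩
  obtain ⟨k, hk⟩ := hy.trans a ha ha1' b hb hb1
  exact isConj_iff.2 ⟨y ^ k, hk⟩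

variable {S : Type u} [Group S] [Finite S]

theorem E_J3 (h : Spor.IsoJ3 S) : NoCfg S := by
  intro D x hc
  obtain ⟨-, z, Q, v, ρ, n, w, F⟩ := KFacts.J3.exists_facts h
  obtain ⟨a, ha, ha1, haa, -⟩ := exists_mem hc
  exact no_model hc ha (isConj_iff.2 (F.one a ha1 haa)) F.model

theorem E_J2 (h : Spor.IsoJ2 S) : NoCfg S := by
  haveI : Fact (Nat.Prime 2) := ⟨Nat.prime_two⟩
  intro D x hc
  obtain ⟨z, u, Q, v, ρ, D0⟩ := KFacts.J2.Facts.exists_dat_of h
  obtain ⟨a, ha, ha1, haa, hconj⟩ := exists_mem hc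
  have ho : orderOf a = 2 := orderOf_eq_prime (by rw [pow_two, haa]) ha1
  rcases D0.F.cover a ho with hza | hua
  · exact no_model hc ha hza D0.M
  obtain ⟨f, U, V, H0, L⟩ := CentU.main D0.F
  have h240 := Order.card_centralizer_u D0.F
  obtain ⟨g, hg⟩ := isConj_iff.1 hua
  set C := centralizer ({u} : Set S) with hC
  have hcommD : ∀ s ∈ D, ∀ t ∈ D, s * t = t * s := by
    intro s hs t ht
    have h1 := hc.e8.inv _ (D.mul_mem hs ht)
    have h2 := hc.e8.inv s hs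
    have h3 := hc.e8.inv t ht
    have e : s * t = (s * t)⁻¹ := eq_inv_of_mul_eq_one_left h1
    rw [e, mul_inv_rev, ← eq_inv_of_mul_eq_one_left h2, ← eq_inv_of_mul_eq_one_left h3]
  -- conjugate into `C(u)`
  let D1 : Subgroup S := D.map (MulAut.conj g⁻¹).toMonoidHom
  have hD1 : D1 ≤ C := by
    rintro _ ⟨s, hs, rfl⟩
    rw [hC, mem_centralizer_singleton_iff]
    show g⁻¹ * s * g⁻¹⁻¹ * u = u * (g⁻¹ * s * g⁻¹⁻¹)
    calc g⁻¹ * s * g⁻¹⁻¹ * u = g⁻¹ * (s * (g * u * g⁻¹)) * g := by group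
      _ = g⁻¹ * (s * a) * g := by rw [hg]
      _ = g⁻¹ * (a * s) * g := by rw [hcommD s hs a ha]
      _ = g⁻¹ * (g * u * g⁻¹ * s) * g := by rw [hg]
      _ = u * (g⁻¹ * s * g⁻¹⁻¹) := by group
  have hD18 : Nat.card D1 = 8 := by
    rw [card_map_of_injective (MulAut.conj g⁻¹).injective, hc.e8.card]
  have hE : E z u ≤ C := fun y hy => mem_centralizer_singleton_iff.2 (mem_E.1 hy).2
  have hf : (Nat.card C).factorization 2 = 4 := by
    rw [h240, show (240 : ℕ) = 2 ^ 4 * 15 by norm_num, Nat.factorization_mul (by norm_num) (by norm_num),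
      Nat.Prime.factorization_pow (by norm_num), Finsupp.add_apply, Finsupp.single_eq_same,
      Nat.factorization_eq_zero_of_not_dvd (by norm_num)]
  let P : Sylow 2 C := Sylow.ofCard ((E z u).subgroupOf C) (by
    rw [Nat.card_congr (subgroupOfEquivOfLe hE).toEquiv, CentU.card_E D0.F, hf]
    norm_num)
  have hp : IsPGroup 2 (D1.subgroupOf C) := IsPGroup.of_card (n := 3) (by
    rw [Nat.card_congr (subgroupOfEquivOfLe hD1).toEquiv, hD18]
    norm_num)
  obtain ⟨R, hR⟩ := hp.exists_le_sylow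
  obtain ⟨c, hcR⟩ := MulAction.exists_smul_eq C R P
  let D2 : Subgroup S := D1.map (MulAut.conj (c : S)).toMonoidHom
  have hD2E : D2 ≤ E z u := by
    rintro _ ⟨s, hs, rfl⟩
    have h1 : c * ⟨s, hD1 hs⟩ * c⁻¹ ∈ (P : Subgroup C) := by
      rw [← hcR, Sylow.smul_def]
      exact ⟨⟨s, hD1 hs⟩, hR (mem_subgroupOf.2 hs), rfl⟩
    exact h1
  have hD28 : Nat.card D2 = 8 := by
    rw [card_map_of_injective (MulAut.conj (c : S)).injective, hD18]
  have hut : ∀ s ∈ D2, s ≠ 1 → IsConj u s := by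
    rintro _ ⟨_, ⟨s, hs, rfl⟩, rfl⟩ hne
    have hs1 : s ≠ 1 := by
      rintro rfl
      exact hne (by rw [map_one, map_one])
    refine hua.trans ((hconj s hs hs1).trans (isConj_iff.2 ⟨c * g⁻¹, ?_⟩))
    show (c : S) * g⁻¹ * s * ((c : S) * g⁻¹)⁻¹ = c * (g⁻¹ * s * g⁻¹⁻¹) * (c : S)⁻¹
    group
  have hUE : U ≤ E z u := by
    intro y hy
    rcases (L.memU y).1 hy with h1 | ⟨-, h1, h2⟩
    · rw [h1]; exact one_mem _
    · exact mem_E.2 ⟨h1, h2⟩
  have hinf : ∀ y ∈ D2, y ∈ U → y = 1 := by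
    intro y hy hyU
    by_contra hne
    rcases (L.memU y).1 hyU with h1 | ⟨h1, -, -⟩
    · exact hne h1
    · exact D0.F.nconj (h1.trans (hut y hy hne).symm)
  have hinj : Function.Injective (fun p : D2 × U => (⟨p.1 * p.2, mul_mem (hD2E p.1.2) (hUE p.2.2)⟩ : E z u)) := by
    rintro ⟨p, q⟩ ⟨p', q'⟩ hpq
    have h1 : (p : S) * q = p' * q' := congrArg Subtype.val hpq
    have h2 : (p' : S)⁻¹ * p = q' * (q : S)⁻¹ := by
      calc (p' : S)⁻¹ * p = (p' : S)⁻¹ * (p * q) * (q : S)⁻¹ := by group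
        _ = q' * (q : S)⁻¹ := by rw [h1]; group
    have h3 := hinf _ (D2.mul_mem (D2.inv_mem p'.2) p.2) (by rw [h2]; exact U.mul_mem q'.2 (U.inv_mem q.2))
    have h4 : (p : S) = p' := (inv_mul_eq_one.1 h3).symm
    rw [h3] at h2
    have h5 : (q : S) = q' := (mul_inv_eq_one.1 h2.symm).symm
    exact Prod.ext (Subtype.ext h4) (Subtype.ext h5)
  have h1 := Nat.card_le_card_of_injective _ hinj
  rw [Nat.card_prod, hD28, L.cardU, CentU.card_E D0.F] at h1
  norm_num at h1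

end Cfsg.Agent.H921.KKL
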