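import Cfsg.Agent.H334.Ore.Co3.Cov
import Cfsg.Agent.H791.SK.Co3

/-!
# `Co₃`: an element of order five with centralizer `5 × A₅` (S4546, F_Co3, piece Q3, helper921)

The 552 rows modulo three of `H317/RO/Co3Data` (tables `H970/Ore/Tab`) and their scalar products (`dot_act`: the
scalar product modulo three is invariant).

* `yy`, `aa`, `bb`, `rr` : words; `aa`, `bb`, `aa * bb` have no fixed rows, so they are conjugate to `w`;
* `card_le` : `|C(yy)| ≤ 300` (12 fixed rows, then 5, 2, 5, 1 candidates; the stabilizer of a row in `C(yy)` has odd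
  order);
* `Q3`.
-/

set_option autoImplicit false
set_option maxRecDepth 100000

namespace Cfsg.Agent.H921.KKL.CoThreeFive

open Subgroup Cfsg Cfsg.Agent.Lib.PackMat Cfsg.Agent.SporRec.LeechMod3 Cfsg.Agent.SporRec.LeechChain
  Cfsg.Agent.SporRec.Co3.MatData Cfsg.Agent.SporRec.Co3.ChainData Cfsg.Agent.SporRec.Co3.Chain
  Cfsg.Agent.SporRec.Co3.Ident Cfsg.Agent.H317.RO.Co3Data Cfsg.Agent.H970.Ore.Base6 Cfsg.Agent.H970.Ore.Tab
open Cfsg.Agent.LeechMat.Core (co0_smul_add co0_sqNorm)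
open Cfsg.Agent.LeechMat.Code (pt pos)
open Cfsg.Agent.H334.Ore.CoThree (InO St mem_St w0 not_Z orderOf_w0 inv_cases)

/-! ### the scalar product modulo three -/

theorem polar (x y : GolayPt → ℤ) : 2 * dotInt x y = sqNorm (x + y) - sqNorm x - sqNorm y := by
  unfold dotInt sqNorm
  rw [Finset.mul_sum, ← Finset.sum_sub_distrib, ← Finset.sum_sub_distrib]
  apply Finset.sum_congr rfl
  intro i _
  rw [Pi.add_apply]
  ring

theorem dot_smul (g : Co0) (x y : leechLattice) :
    dotInt ((g • x : leechLattice) : GolayPt → ℤ) ((g • y : leechLattice) : GolayPt → ℤ) =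
      dotInt (x : GolayPt → ℤ) (y : GolayPt → ℤ) := by
  have h1 := polar ((g • x : leechLattice) : GolayPt → ℤ) ((g • y : leechLattice) : GolayPt → ℤ)
  have h2 := polar (x : GolayPt → ℤ) (y : GolayPt → ℤ)
  have h3 : ((g • x : leechLattice) : GolayPt → ℤ) + ((g • y : leechLattice) : GolayPt → ℤ) =
      ((g • (x + y) : leechLattice) : GolayPt → ℤ) := by
    rw [co0_smul_add]; rfl
  have h4 : (x : GolayPt → ℤ) + (y : GolayPt → ℤ) = ((x + y : leechLattice) : GolayPt → ℤ) := rfl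
  rw [h3, co0_sqNorm, co0_sqNorm, co0_sqNorm] at h1
  rw [h4] at h2
  omega

theorem dot_E8 (p q : GolayPt) : dotInt (E8 p : GolayPt → ℤ) (E8 q : GolayPt → ℤ) = if p = q then 64 else 0 := by
  unfold dotInt
  rw [Finset.sum_eq_single p]
  · rw [E8_apply, E8_apply, if_pos rfl]
    split_ifs <;> norm_num
  · intro r _ hr
    rw [E8_apply, if_neg hr, zero_mul]
  · intro h; exact absurd (Finset.mem_univ _) h

theorem rho_orth (g : Co0) : (rho g).transpose * rho g = 1 := by
  ext j k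
  rw [Matrix.mul_apply, Matrix.one_apply]
  have h1 := dot_smul g (E8 (pt j)) (E8 (pt k))
  rw [dot_E8] at h1
  unfold dotInt at h1
  rw [sum_pt] at h1
  have h2 : (∑ i : Fin 24, (rho g).transpose j i * rho g i k) =
      ((∑ i : Fin 24, ((g • E8 (pt j) : leechLattice) : GolayPt → ℤ) (pt i) *
        ((g • E8 (pt k) : leechLattice) : GolayPt → ℤ) (pt i) : ℤ) : ZMod 3) := by
    rw [Int.cast_sum]
    apply Finset.sum_congr rfl
    intro i _
    rw [Matrix.transpose_apply, rho_apply, rho_apply, Int.cast_mul]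
    ring
  rw [h2, h1]
  by_cases h : j = k
  · subst h
    rw [if_pos rfl, if_pos rfl]; decide
  · rw [if_neg fun h' => h (pt_inj h'), if_neg h]; rfl

theorem dot_act (g : Co0) (v w : Fin 24 → ZMod 3) : act v g ⬝ᵥ act w g = v ⬝ᵥ w := by
  unfold act
  have h2 : rho g * rho g⁻¹ = 1 := by rw [← map_mul, mul_inv_cancel, map_one]
  have h3 : (rho g).transpose = rho g⁻¹ := by
    calc (rho g).transpose = (rho g).transpose * (rho g * rho g⁻¹) := by rw [h2, mul_one]
      _ = ((rho g).transpose * rho g) * rho g⁻¹ := by rw [mul_assoc]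
      _ = rho g⁻¹ := by rw [rho_orth, one_mul]
  have h1 : rho g * (rho g).transpose = 1 := by rw [h3, h2]
  rw [← Matrix.dotProduct_mulVec, ← Matrix.mulVec_transpose, Matrix.mulVec_mulVec, h1, Matrix.one_mulVec]

/-- the scalar product of two rows -/
def ip (i j : ℕ) : ZMod 3 := rv (row i) ⬝ᵥ rv (row j)

/-- partial sums -/
def dotN (R S : ℕ) : ℕ → ℕ
  | 0 => 0
  | k + 1 => dotN R S k + dg 15 R (23 - k) * dg 15 S (23 - k)

theorem dotN_eq (R S : ℕ) : ∀ n : ℕ, ((dotN R S n : ℕ) : ZMod 3) =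
    ∑ k ∈ Finset.range n, (dg 15 R (23 - k) : ZMod 3) * (dg 15 S (23 - k) : ZMod 3) := by
  intro n
  induction n with
  | zero => rfl
  | succ n ih => rw [Finset.sum_range_succ, dotN, Nat.cast_add, ih, Nat.cast_mul]

/-- the scalar product, for the kernel -/
noncomputable def ipN (i j : ℕ) : ℕ := Nat.mod (dotN (row i) (row j) 24) 3

theorem ipN_eq (i j : ℕ) : ip i j = (ipN i j : ZMod 3) := by
  have h1 : ((ipN i j : ℕ) : ZMod 3) = ((dotN (row i) (row j) 24 : ℕ) : ZMod 3) := by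
    show ((dotN (row i) (row j) 24 % 3 : ℕ) : ZMod 3) = _
    rw [ZMod.natCast_mod]
  rw [h1, dotN_eq, Finset.sum_range]
  rfl

theorem beq_of_ip {i j k l : ℕ} (h : ip i j = ip k l) : Nat.beq (ipN i j) (ipN k l) = true := by
  rw [ipN_eq, ipN_eq] at h
  have h1 : ∀ a b : ℕ, ipN a b < 3 := fun a b => Nat.mod_lt _ (by norm_num)
  have h2 := (ZMod.natCast_eq_natCast_iff _ _ 3).1 h
  rw [Nat.beq_eq]
  exact Nat.ModEq.eq_of_lt_of_lt h2 (h1 _ _) (h1 _ _)

/-! ### indices -/

theorem dist' : allBelow (fun i => allBelow (fun j => !(Nat.beq (row i) (row j))) i) 552 = true := by decide +kernel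

theorem idx_inj {i j : ℕ} (hi : i < 552) (hj : j < 552) (h : rv (row i) = rv (row j)) : i = j := by
  have h1 := row_inj hi hj h
  rcases Nat.lt_trichotomy i j with hl | hl | hl
  · have h2 := allBelow_spec (allBelow_spec dist' j hj) i hl
    rw [h1, Nat.beq_refl] at h2
    exact absurd h2 (by decide)
  · exact hl
  · have h2 := allBelow_spec (allBelow_spec dist' i hi) j hl
    rw [h1, Nat.beq_refl] at h2
    exact absurd h2 (by decide)

theorem exists_PT (g : G3) : ∃ f : ℕ → ℕ, PT g f := by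
  have h : ∀ i : ℕ, ∃ j : ℕ, i < 552 → j < 552 ∧ act (rv (row i)) (g : Co0) = rv (row j) := by
    intro i
    by_cases hi : i < 552
    · obtain ⟨j, hj, hj'⟩ := InO.act g (v := rv (row i)) ⟨i, hi, rfl⟩
      exact ⟨j, fun _ => ⟨hj, hj'⟩⟩
    · exact ⟨0, fun h => absurd h hi⟩
  choose f hf using h
  exact ⟨f, fun i hi => hf i hi⟩

theorem ptUnique {g : G3} {f f' : ℕ → ℕ} (h : PT g f) (h' : PT g f') {i : ℕ} (hi : i < 552) : f i = f' i := by
  apply idx_inj (h i hi).1 (h' i hi).1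
  rw [← (h i hi).2, (h' i hi).2]

theorem ptIp {g : G3} {f : ℕ → ℕ} (h : PT g f) {i j : ℕ} (hi : i < 552) (hj : j < 552) : ip (f i) (f j) = ip i j := by
  unfold CoThreeFive.ip
  rw [← (h i hi).2, ← (h j hj).2, dot_act]

theorem ptComm {g h : G3} {f f' : ℕ → ℕ} (hg : PT g f) (hh : PT h f') (hc : g * h = h * g) {i : ℕ} (hi : i < 552) :
    f (f' i) = f' (f i) := by
  have h1 := hh.mul hg
  have h2 := hg.mul hh
  rw [hc] at h2
  exact ptUnique h1 h2 hi

theorem mem_St' {g : G3} {f : ℕ → ℕ} (h : PT g f) {b : ℕ} (hb : b < 552) : g ∈ St b ↔ f b = b := by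
  rw [mem_St, (h b hb).2]
  constructor
  · intro h1
    exact idx_inj (h b hb).1 hb h1
  · intro h1
    rw [h1]

/-- **one step of the chain** -/
theorem chain_le (H : Subgroup G3) {b : ℕ} (hb : b < 552) (S : List ℕ) (hS : ∀ g ∈ H, ∀ f, PT g f → f b ∈ S) :
    Nat.card H ≤ S.length * Nat.card ↥(H ⊓ St b) := by
  classical
  have hfin : Finite G3 := Cfsg.Agent.H555.TwoSp.finite_G3
  have hft : Fintype ↥H := Fintype.ofFinite _
  choose F hF using exists_PT
  let f : ↥H → ℕ := fun g => F g.1 b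
  have himg : (Finset.univ.image f).card ≤ S.length := by
    refine le_trans (Finset.card_le_card (t := S.toFinset) ?_) (List.toFinset_card_le S)
    intro i hi
    obtain ⟨g, -, rfl⟩ := Finset.mem_image.1 hi
    rw [List.mem_toFinset]
    exact hS g.1 g.2 _ (hF g.1)
  rw [Nat.card_eq_fintype_card, ← Finset.card_univ, mul_comm]
  refine (Finset.card_le_mul_card_image (f := f) Finset.univ (Nat.card ↥(H ⊓ St b)) ?_).trans
    (Nat.mul_le_mul_left _ himg)
  intro i hi
  obtain ⟨g0, -, rfl⟩ := Finset.mem_image.1 hi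
  have hmem : ∀ g ∈ Finset.univ.filter (fun g => f g = f g0), (g : G3) * (g0 : G3)⁻¹ ∈ H ⊓ St b := by
    intro g hg
    refine mem_inf.2 ⟨H.mul_mem g.2 (H.inv_mem g0.2), ?_⟩
    have h2 : F g.1 b = F g0.1 b := (Finset.mem_filter.1 hg).2
    rw [mem_St, Subgroup.coe_mul, act_mul, (hF g.1 b hb).2, h2, ← (hF g0.1 b hb).2, ← act_mul, Subgroup.coe_inv,
      mul_inv_cancel, act_one]
  rw [← Nat.card_eq_finsetCard]
  let k : ↥(Finset.univ.filter (fun g => f g = f g0)) → ↥(H ⊓ St b) := fun g => ⟨_, hmem g.1 g.2⟩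
  refine Nat.card_le_card_of_injective k ?_
  rintro ⟨g, hg⟩ ⟨g', hg'⟩ h
  have h1 : (g : G3) * (g0 : G3)⁻¹ = (g' : G3) * (g0 : G3)⁻¹ := congrArg Subtype.val h
  exact Subtype.ext (Subtype.ext (mul_right_cancel h1))

/-! ### the words -/

/-- of order 5 -/
def yw : List ℕ := [8, 0, 4, 8, 0, 4]
/-- involution -/
def aw : List ℕ := [7, 0, 7]
/-- involution -/
def bw : List ℕ := [8, 0, 4, 8, 0, 4, 8, 0, 4, 8, 0, 4, 8, 0, 4]
/-- normalizes `⟨y⟩`, commutes with `a` -/
def rw' : List ℕ := [0, 6, 8, 0, 1, 8, 0, 1, 8]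

/-- the elements -/
noncomputable def yy : G3 := val yw
noncomputable def aa : G3 := val aw
noncomputable def bb : G3 := val bw
noncomputable def rr : G3 := val rw'

theorem rels : (chkW (yw ++ (yw ++ (yw ++ (yw ++ yw)))) [] && chkW (aw ++ aw) [] && chkW (bw ++ bw) [] &&
    chkW (aw ++ bw) (bw ++ aw) && chkW (aw ++ yw) (yw ++ aw) && chkW (bw ++ yw) (yw ++ bw) &&
    chkW (rw' ++ aw) (aw ++ rw') && chkW (rw' ++ yw) (yw ++ (yw ++ rw'))) = true := by decide +kernel

theorem y_pow : yy ^ 5 = 1 := by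
  have h := rels
  simp only [Bool.and_eq_true] at h
  have h1 := val_eq h.1.1.1.1.1.1.1
  simp only [val_append, val_nil] at h1
  show val yw ^ 5 = 1
  rw [← h1]
  simp only [pow_succ, pow_zero, one_mul, mul_assoc]

theorem a_sq : aa * aa = 1 := by
  have h := rels
  simp only [Bool.and_eq_true] at h
  have h1 := val_eq h.1.1.1.1.1.1.2
  simp only [val_append, val_nil] at h1
  exact h1

theorem b_sq : bb * bb = 1 := by
  have h := rels
  simp only [Bool.and_eq_true] at h
  have h1 := val_eq h.1.1.1.1.1.2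
  simp only [val_append, val_nil] at h1
  exact h1

theorem ab : aa * bb = bb * aa := by
  have h := rels
  simp only [Bool.and_eq_true] at h
  have h1 := val_eq h.1.1.1.1.2
  simp only [val_append, val_nil] at h1
  exact h1

theorem ay : aa * yy = yy * aa := by
  have h := rels
  simp only [Bool.and_eq_true] at h
  have h1 := val_eq h.1.1.1.2
  simp only [val_append, val_nil] at h1
  exact h1

theorem by' : bb * yy = yy * bb := by
  have h := rels
  simp only [Bool.and_eq_true] at h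
  have h1 := val_eq h.1.1.2
  simp only [val_append, val_nil] at h1
  exact h1

theorem ra : rr * aa = aa * rr := by
  have h := rels
  simp only [Bool.and_eq_true] at h
  have h1 := val_eq h.1.2
  simp only [val_append, val_nil] at h1
  exact h1

theorem ry : rr * yy * rr⁻¹ = yy ^ 2 := by
  have h := rels
  simp only [Bool.and_eq_true] at h
  have h1 := val_eq h.2
  simp only [val_append] at h1
  rw [mul_inv_eq_iff_eq_mul, pow_two, mul_assoc]
  exact h1

/-- the table of `yy` -/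
def tY : ℕ := 0x7e97d8491452185409b3721c5470166fcfd4a4a874a0b0e87814c193506b43c7d8509b378450acfe5a8ed5948a2b09669d21584c90d05d5e83c8820d2c9987a178101b873cab3e8a28753872c938115705c8f1ed6b859545c599509075d50533e1139883899ba7aca71fd7065439028313e5d5724df730257ed637521b728ef46c5181c6526a00321dc88cad7e1dd6c4bf048e97c9b0574f639ccb608f15f1194bc64139392d9af7fda16a58e60dc78859d778c44d4ee184945299287d8b7b0ff6990a244f52496e074630cc801b1532093755517861814c14f21d9b4c5fd7197b01c54688024945842d235f9c482932458c557d416d9624cc3e2c53d7847e1686d198850d8c363d696b9522f88c6709017869838716ee097d4bc590ca6302a49c68365d0205910a5df6797f610ba7f8af681a82e07c6c8112805c4adf70ed502a9561de034913a6282d818db474004f88b391514392878cdc0a08d44613061e47804a12ca45e60c4354b2cc57461f4361ea6907923974564993cd1e581ab6f0d6338f27c41a210bb625c0764f08046f6f87a2e568530e24da05099153a8b72721a57a028703274c0b891f925c3d0b0752d4e35ddfc318382259738405482153edce300217da271116683dac34d2a18144759a3381903a0866d56c5b5451d1d7154351345f28d134487264d1a4d049534d72995c188482c01b61d1f254d03dc504ed6731dd8279d1078225bd0c7a59f4fc010555b148fc6344f03db7560cd735db331e711d96276101b84356a081ce2522023159e5865a519c0350d082d110164983d12e0c1ad879944b1067ccda3acd1309047c1c23e10127c2e788706684209cec539e60fd46618a570406051477bc415cc5b6d00d04c2f498a96e522284085d8244f1c33043740c4607c0c400dd5c81c500e54b5bd040ae080d2620d51aa1713109025aa769ee889492f5ed1d80e60004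

/-- the action of `yy` -/
def ty (i : ℕ) : ℕ := Nat.mod (Nat.shiftRight tY (10 * i)) 1024

theorem ty' : allBelow (fun i => Nat.beq (run yw i) (ty i)) 552 = true := by decide +kernel

theorem pt_y : PT yy ty := (pt_val (u := yw) (by decide)).congr fun i hi =>
  Nat.eq_of_beq_eq_true (allBelow_spec ty' i hi)

/-- no fixed rows -/
noncomputable def nf (u : List ℕ) : Bool := lok u && allBelow (fun i => !(Nat.beq (H970.Ore.Tab.run u i) i)) 552

theorem nf' : (nf aw && nf bw && nf (aw ++ bw) && nf w0) = true := by decide +kernel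

theorem not_fix {u : List ℕ} (h : nf u = true) {j : ℕ} (hj : j < 552) :
    act (rv (row j)) (val u : Co0) ≠ rv (row j) := by
  unfold nf at h
  rw [Bool.and_eq_true] at h
  intro h1
  obtain ⟨h2, h3⟩ := pt_val h.1 j hj
  rw [h3] at h1
  have h4 := allBelow_spec h.2 j hj
  rw [idx_inj h2 hj h1, Nat.beq_refl] at h4
  exact absurd h4 (by decide)

theorem ne_one_of_nf {u : List ℕ} (h : nf u = true) : val u ≠ 1 := by
  intro h1
  apply not_fix h (j := 0) (by norm_num)
  rw [h1]
  exact act_one _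

theorem y_ne : yy ≠ 1 := by
  intro h
  have h1 : (Nat.beq (ty 7) 7) = false := by decide +kernel
  have h2 := ptUnique pt_y (by rw [h]; exact PT.one) (i := 7) (by norm_num)
  rw [h2, Nat.beq_refl] at h1
  exact absurd h1 (by decide)

theorem order_y : orderOf yy = 5 := by
  have := Fact.mk Nat.prime_five
  exact orderOf_eq_prime y_pow y_ne

theorem fix_conj {u g : G3} {j : ℕ} (h : act (rv (row j)) (u : Co0) = rv (row j)) :
    act (act (rv (row j)) (g : Co0)) ((g⁻¹ * u * g : G3) : Co0) = act (rv (row j)) (g : Co0) := by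
  rw [← act_mul]
  conv_rhs => rw [← h]
  rw [← act_mul]
  congr 1
  push_cast
  group

/-- an element without fixed rows is not conjugate to `Z` -/
theorem nf_not_Z {u : List ℕ} (hu : nf u = true) {g : G3} (h : g⁻¹ * val u * g = Z) : False := by
  have h3 := H334.Ore.CoThree.fixZ'
  rw [Bool.and_eq_true, Nat.blt_eq] at h3
  obtain ⟨h4, h5⟩ := pt_val (u := [0, 0]) (by decide) 0 h3.2
  rw [Nat.eq_of_beq_eq_true h3.1, H334.Ore.CoThree.val_Z, ← h] at h5
  obtain ⟨j, hj, hj'⟩ := InO.act g⁻¹ (v := rv (row 0)) ⟨_, h3.2, rfl⟩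
  apply not_fix hu hj
  rw [← hj']
  have h6 := fix_conj (u := g⁻¹ * val u * g) (g := g⁻¹) h5
  rw [inv_inv] at h6
  have h7 : g * (g⁻¹ * val u * g) * g⁻¹ = val u := by group
  rwa [h7] at h6


/-! ### the chain of stabilizers in the centralizer of `yy` -/

/-- the row `z` looks like the row `x`, relative to the fixed rows `E` and the action of `yy` -/
noncomputable def okc (E : List ℕ) (x z : ℕ) : Bool :=
  E.all (fun e => Nat.beq (ipN e z) (ipN e x) && (Nat.beq z e == Nat.beq x e)) &&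
    (Nat.beq (ty z) z == Nat.beq (ty x) x) && Nat.beq (ipN z (ty z)) (ipN x (ty x)) &&
      Nat.beq (ipN z (ty (ty z))) (ipN x (ty (ty x)))

/-- the candidates for the image of `x` are in `S` -/
noncomputable def cand (E : List ℕ) (x : ℕ) (S : List ℕ) : Bool :=
  Nat.blt x 552 && E.all (fun e => Nat.blt e 552) && allBelow (fun z => !(okc E x z) || S.any (fun s => Nat.beq z s)) 552

theorem ptInj {g : G3} {f : ℕ → ℕ} (h : PT g f) {i j : ℕ} (hi : i < 552) (hj : j < 552) (he : f i = f j) : i = j := by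
  apply idx_inj hi hj
  have h1 : act (rv (row i)) (g : Co0) = act (rv (row j)) (g : Co0) := by rw [(h i hi).2, (h j hj).2, he]
  have h2 := congrArg (fun v => act v ((g⁻¹ : G3) : Co0)) h1
  simp only [← act_mul, Subgroup.coe_inv, mul_inv_cancel, act_one] at h2
  exact h2

theorem okc_of {g : G3} {f : ℕ → ℕ} (h : PT g f) (hc : g * yy = yy * g) {E : List ℕ}
    (hE : ∀ e ∈ E, e < 552 ∧ f e = e) {x : ℕ} (hx : x < 552) : okc E x (f x) = true := by
  have h1 : ty x < 552 := (pt_y x hx).1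
  have h2 : ty (ty x) < 552 := (pt_y _ h1).1
  have e1 : ty (f x) = f (ty x) := (ptComm h pt_y hc hx).symm
  have e2 : ty (ty (f x)) = f (ty (ty x)) := by rw [e1]; exact (ptComm h pt_y hc h1).symm
  unfold okc
  rw [Bool.and_eq_true, Bool.and_eq_true, Bool.and_eq_true, List.all_eq_true]
  refine ⟨⟨⟨?_, ?_⟩, ?_⟩, ?_⟩
  · intro e he
    obtain ⟨he1, he2⟩ := hE e he
    rw [Bool.and_eq_true]
    constructor
    · apply beq_of_ip
      have h3 := ptIp h he1 hx
      rwa [he2] at h3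
    · rw [beq_iff_eq, Bool.eq_iff_iff, Nat.beq_eq, Nat.beq_eq]
      constructor
      · intro h3
        apply ptInj h hx he1
        rw [h3, he2]
      · intro h3
        rw [h3, he2]
  · rw [beq_iff_eq, Bool.eq_iff_iff, Nat.beq_eq, Nat.beq_eq, e1]
    constructor
    · intro h3
      exact ptInj h h1 hx h3
    · intro h3
      rw [h3]
  · apply beq_of_ip
    rw [e1]
    exact ptIp h hx h1
  · apply beq_of_ip
    rw [e2]
    exact ptIp h hx h2

theorem cand_spec {g : G3} {f : ℕ → ℕ} (h : PT g f) (hc : g * yy = yy * g) {E : List ℕ} (hE : ∀ e ∈ E, f e = e)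
    {x : ℕ} {S : List ℕ} (hS : cand E x S = true) : f x ∈ S := by
  unfold cand at hS
  rw [Bool.and_eq_true, Bool.and_eq_true, List.all_eq_true, Nat.blt_eq] at hS
  obtain ⟨⟨hx, hE'⟩, h1⟩ := hS
  have h2 := allBelow_spec h1 (f x) (h x hx).1
  rw [okc_of h hc (fun e he => ⟨by have := hE' e he; rwa [Nat.blt_eq] at this, hE e he⟩) hx, Bool.not_true,
    Bool.false_or, List.any_eq_true] at h2
  obtain ⟨s, hs, hs'⟩ := h2
  rw [Nat.eq_of_beq_eq_true hs']
  exact hs

/-- the rows of the list are fixed one after the other -/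
noncomputable def steps (F : List ℕ) : List (List ℕ × ℕ) → Bool
  | [] => true
  | p :: l => p.1.all (fun e => F.any fun s => Nat.beq e s) && cand p.1 p.2 [p.2] && steps (p.2 :: F) l

theorem steps_spec {g : G3} {f : ℕ → ℕ} (h : PT g f) (hc : g * yy = yy * g) : ∀ (l : List (List ℕ × ℕ))
    (F : List ℕ), (∀ e ∈ F, f e = e) → steps F l = true → ∀ p ∈ l, f p.2 = p.2 := by
  intro l
  induction l with
  | nil => intro F _ _ p hp; exact absurd hp List.not_mem_nil
  | cons q l ih =>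
    intro F hF hs p hp
    rw [steps, Bool.and_eq_true, Bool.and_eq_true, List.all_eq_true] at hs
    obtain ⟨⟨h1, h2⟩, h3⟩ := hs
    have h4 : f q.2 = q.2 := by
      have h5 := cand_spec h hc (E := q.1) (fun e he => by
        obtain ⟨s, hs, hs'⟩ := List.any_eq_true.1 (h1 e he)
        rw [Nat.eq_of_beq_eq_true hs']
        exact hF s hs) h2
      rwa [List.mem_singleton] at h5
    rcases List.mem_cons.1 hp with rfl | hp
    · exact h4
    · refine ih (q.2 :: F) ?_ h3 p hp
      intro e he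
      rcases List.mem_cons.1 he with rfl | he
      · exact h4
      · exact hF e he

theorem c1 : cand [] 31 [31, 66, 163, 226, 242, 273, 285, 299, 338, 354, 402, 432] = true := by decide +kernel
theorem c2 : cand [31] 163 [163, 299, 354, 402, 432] = true := by decide +kernel
theorem c3 : cand [31, 163] 299 [299, 354] = true := by decide +kernel

/-- the rows fixed with `31, 163, 299` -/
def l1 : List (List ℕ × ℕ) :=
  [([31, 163, 299], 242), ([31, 163, 299], 285), ([31, 163, 299], 338), ([31, 163, 299], 354), ([31, 163, 299], 402),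
    ([31, 163, 299], 432), ([338, 354, 402], 66), ([354, 402, 432], 226), ([354, 402, 432], 273)]

theorem s1 : steps [31, 163, 299] l1 = true := by decide +kernel
theorem c4 : cand [354, 432, 66, 226, 273] 7 [7, 51, 371, 389, 546] = true := by decide +kernel

/-- the rows fixed with the orbit of `7` -/
def l2 : List (List ℕ × ℕ) :=
  [([66, 273, 7, 546, 389, 51, 371], 369), ([432, 66, 7, 546, 389, 51, 371], 239),
    ([66, 7, 51, 371, 369, 239], 0), ([273, 7, 389, 51, 371, 369, 239], 1), ([66, 7, 51, 371, 369, 239], 4),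
    ([226, 546, 51, 369], 5), ([226, 546, 371, 239], 26), ([66, 226, 546, 51, 371, 239], 3)]

theorem s2 : steps [31, 163, 299, 242, 285, 338, 354, 402, 432, 66, 226, 273, 7, 546, 389, 51, 371] l2 = true := by
  decide +kernel

theorem orb7 : (Nat.beq (ty 7) 546 && Nat.beq (ty 546) 389 && Nat.beq (ty 389) 51 && Nat.beq (ty 51) 371) = true := by
  decide +kernel

/-- the centralizer of `yy` -/
noncomputable def Cy : Subgroup G3 := centralizer ({yy} : Set G3)

theorem mem_Cy {g : G3} : g ∈ Cy ↔ g * yy = yy * g := mem_centralizer_singleton_iff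

theorem fix3 {g : G3} (hc : g * yy = yy * g) {f : ℕ → ℕ} (h : PT g f) (h1 : f 31 = 31) (h2 : f 163 = 163)
    (h3 : f 299 = 299) : ∀ e ∈ [31, 163, 299, 242, 285, 338, 354, 402, 432, 66, 226, 273], f e = e := by
  have hE : ∀ e ∈ [31, 163, 299], f e = e := by
    intro e he
    simp only [List.mem_cons, List.not_mem_nil, or_false] at he
    rcases he with rfl | rfl | rfl <;> assumption
  have h4 := steps_spec h hc l1 _ hE s1
  intro e he
  rw [show [31, 163, 299, 242, 285, 338, 354, 402, 432, 66, 226, 273] = [31, 163, 299] ++ l1.map (fun p => p.2)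
    from rfl, List.mem_append] at he
  rcases he with he | he
  · exact hE e he
  · obtain ⟨p, hp, rfl⟩ := List.mem_map.1 he
    exact h4 p hp

theorem last {g : G3} (hc : g * yy = yy * g) {f : ℕ → ℕ} (h : PT g f) (h1 : f 31 = 31) (h2 : f 163 = 163)
    (h3 : f 299 = 299) (h7 : f 7 = 7) : g = 1 := by
  have hF := fix3 hc h h1 h2 h3
  have ho := orb7
  rw [Bool.and_eq_true, Bool.and_eq_true, Bool.and_eq_true] at ho
  obtain ⟨⟨⟨o1, o2⟩, o3⟩, o4⟩ := ho
  have key : ∀ {i j : ℕ}, i < 552 → f i = i → Nat.beq (ty i) j = true → f j = j := by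
    intro i j hi hf hj
    have h5 := ptComm h pt_y hc hi
    rw [hf, Nat.eq_of_beq_eq_true hj] at h5
    exact h5
  have f1 := key (by norm_num) h7 o1
  have f2 := key (by norm_num) f1 o2
  have f3 := key (by norm_num) f2 o3
  have f4 := key (by norm_num) f3 o4
  have hG : ∀ e ∈ [31, 163, 299, 242, 285, 338, 354, 402, 432, 66, 226, 273, 7, 546, 389, 51, 371], f e = e := by
    intro e he
    rw [show [31, 163, 299, 242, 285, 338, 354, 402, 432, 66, 226, 273, 7, 546, 389, 51, 371] =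
      [31, 163, 299, 242, 285, 338, 354, 402, 432, 66, 226, 273] ++ [7, 546, 389, 51, 371] from rfl,
      List.mem_append] at he
    rcases he with he | he
    · exact hF e he
    · simp only [List.mem_cons, List.not_mem_nil, or_false] at he
      rcases he with rfl | rfl | rfl | rfl | rfl <;> assumption
  have h8 := steps_spec h hc l2 _ hG s2
  refine eq_of_pt h PT.one ?_
  intro b hb
  have h9 : b ∈ l2.map (fun p => p.2) := by
    have : ∀ b ∈ bs, b ∈ l2.map (fun p => p.2) := by decide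
    exact this b hb
  obtain ⟨p, hp, rfl⟩ := List.mem_map.1 h9
  exact h8 p hp

theorem fix_of_mem {g : G3} {f : ℕ → ℕ} (h : PT g f) {b : ℕ} (hb : b < 552) (hg : g ∈ St b) : f b = b :=
  (mem_St' h hb).1 hg

theorem step1 : Nat.card ↥Cy ≤ 12 * Nat.card ↥(Cy ⊓ St 31) := by
  refine chain_le Cy (b := 31) (by norm_num) [31, 66, 163, 226, 242, 273, 285, 299, 338, 354, 402, 432] ?_
  intro g hg f hf
  exact cand_spec hf (mem_Cy.1 hg) (E := []) (fun e he => absurd he List.not_mem_nil) c1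

theorem step2 : Nat.card ↥(Cy ⊓ St 31) ≤ 5 * Nat.card ↥(Cy ⊓ St 31 ⊓ St 163) := by
  refine chain_le _ (b := 163) (by norm_num) [163, 299, 354, 402, 432] ?_
  intro g hg f hf
  refine cand_spec hf (mem_Cy.1 (mem_inf.1 hg).1) (E := [31]) (fun e he => ?_) c2
  rw [List.mem_singleton.1 he]
  exact fix_of_mem hf (by norm_num) (mem_inf.1 hg).2

theorem step3 : Nat.card ↥(Cy ⊓ St 31 ⊓ St 163) ≤ 2 * Nat.card ↥(Cy ⊓ St 31 ⊓ St 163 ⊓ St 299) := by
  refine chain_le _ (b := 299) (by norm_num) [299, 354] ?_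
  intro g hg f hf
  have h1 := mem_inf.1 hg
  have h2 := mem_inf.1 h1.1
  refine cand_spec hf (mem_Cy.1 h2.1) (E := [31, 163]) (fun e he => ?_) c3
  simp only [List.mem_cons, List.not_mem_nil, or_false] at he
  rcases he with rfl | rfl
  · exact fix_of_mem hf (by norm_num) h2.2
  · exact fix_of_mem hf (by norm_num) h1.2

theorem step4 : Nat.card ↥(Cy ⊓ St 31 ⊓ St 163 ⊓ St 299) ≤ 5 := by
  have h0 : Nat.card ↥(Cy ⊓ St 31 ⊓ St 163 ⊓ St 299) ≤ 5 * Nat.card ↥(Cy ⊓ St 31 ⊓ St 163 ⊓ St 299 ⊓ St 7) := by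
    refine chain_le _ (b := 7) (by norm_num) [7, 51, 371, 389, 546] ?_
    intro g hg f hf
    have h1 := mem_inf.1 hg
    have h2 := mem_inf.1 h1.1
    have h3 := mem_inf.1 h2.1
    have hF := fix3 (mem_Cy.1 h3.1) hf (fix_of_mem hf (by norm_num) h3.2) (fix_of_mem hf (by norm_num) h2.2)
      (fix_of_mem hf (by norm_num) h1.2)
    refine cand_spec hf (mem_Cy.1 h3.1) (E := [354, 432, 66, 226, 273]) (fun e he => hF e ?_) c4
    revert e
    decide
  have h5 : Cy ⊓ St 31 ⊓ St 163 ⊓ St 299 ⊓ St 7 = ⊥ := by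
    rw [eq_bot_iff]
    intro g hg
    have h0 := mem_inf.1 hg
    have h1 := mem_inf.1 h0.1
    have h2 := mem_inf.1 h1.1
    have h3 := mem_inf.1 h2.1
    obtain ⟨f, hf⟩ := exists_PT g
    exact mem_bot.2 (last (mem_Cy.1 h3.1) hf (fix_of_mem hf (by norm_num) h3.2) (fix_of_mem hf (by norm_num) h2.2)
      (fix_of_mem hf (by norm_num) h1.2) (fix_of_mem hf (by norm_num) h0.2))
  rw [h5, Subgroup.card_bot, mul_one] at h0
  exact h0

/-! ### the stabilizer of a row has odd order -/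

theorem four : aa ≠ 1 ∧ bb ≠ 1 ∧ aa * bb ≠ 1 := by
  have h := nf'
  rw [Bool.and_eq_true, Bool.and_eq_true, Bool.and_eq_true] at h
  obtain ⟨⟨⟨h1, h2⟩, h3⟩, -⟩ := h
  refine ⟨ne_one_of_nf h1, ne_one_of_nf h2, ?_⟩
  have h4 := ne_one_of_nf h3
  rwa [val_append] at h4

theorem no_invol {i : G3} (hi : i * i = 1) (hi1 : i ≠ 1) (hc : i * yy = yy * i) (hf : i ∈ St 31) : False := by
  have hfin : Finite G3 := Cfsg.Agent.H555.TwoSp.finite_G3
  obtain ⟨g, hg | hg⟩ := inv_cases (Cfsg.Agent.H791.SK.Co3.orderOf_eq_two hi hi1)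
  · obtain ⟨π, N⟩ := Cfsg.Agent.KFacts.Co3D4.exists_NS_G3
    have ht : i = g * Z * g⁻¹ := by rw [← hg]; group
    have hconj : ∀ {k : G3}, Commute k i → Commute (g⁻¹ * k * g) Z := by
      intro k hk
      have h3 := hk.eq
      rw [ht] at h3
      show (g⁻¹ * k * g) * Z = Z * (g⁻¹ * k * g)
      calc (g⁻¹ * k * g) * Z = g⁻¹ * (k * (g * Z * g⁻¹)) * g := by group
        _ = g⁻¹ * (g * Z * g⁻¹ * k) * g := by rw [h3]
        _ = _ := by group
    have hx5 : orderOf (g⁻¹ * yy * g) = 5 := by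
      have : orderOf (g⁻¹ * yy * g) = orderOf yy := by
        simpa using MulEquiv.orderOf_eq (MulAut.conj g⁻¹) yy
      rw [this, order_y]
    have hu : ∀ k : G3, k * k = 1 → k ≠ 1 → Commute k i → Commute k yy → k = i := by
      intro k hk hk1 hki hky
      have h2 := Cfsg.Agent.CpAutCoThreeFive.invol_unique N hx5 (hconj (show Commute yy i from hc.symm)).eq
        (y := g⁻¹ * k * g)
        (by
          calc g⁻¹ * k * g * (g⁻¹ * k * g) = g⁻¹ * (k * k) * g := by group
            _ = 1 := by rw [hk]; group)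
        (by
          intro h
          apply hk1
          calc k = g * (g⁻¹ * k * g) * g⁻¹ := by group
            _ = 1 := by rw [h]; group)
        (hconj hki).eq
        (by
          calc g⁻¹ * k * g * (g⁻¹ * yy * g) = g⁻¹ * (k * yy) * g := by group
            _ = g⁻¹ * (yy * k) * g := by rw [hky.eq]
            _ = _ := by group)
      rw [ht, ← h2]; group
    obtain ⟨ha, hb, hab⟩ := four
    refine Cfsg.Agent.H791.SK.Co3.four_false (H := Cy) (z := ⟨i, mem_Cy.2 hc⟩) (a := ⟨aa, mem_Cy.2 ay⟩)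
      (b := ⟨bb, mem_Cy.2 by'⟩) (Subtype.ext hi) (fun h2 => hi1 (congrArg Subtype.val h2)) ?_
      (Subtype.ext a_sq) (fun h2 => ha (congrArg Subtype.val h2))
      (Subtype.ext b_sq) (fun h2 => hb (congrArg Subtype.val h2)) (Subtype.ext ab) ?_
    · rintro ⟨k, hk⟩ h2 h3 h4
      exact Subtype.ext (hu k (congrArg Subtype.val h2) (fun h5 => h3 (Subtype.ext h5))
        (congrArg Subtype.val h4.eq) (mem_Cy.1 hk))
    · intro h2
      have h3 : aa = bb := congrArg Subtype.val h2
      apply hab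
      rw [← h3]
      exact a_sq
  · obtain ⟨j, hj, hj'⟩ := InO.act g (v := rv (row 31)) ⟨31, by norm_num, rfl⟩
    have h6 := fix_conj (u := i) (g := g) (mem_St.1 hf)
    rw [hg, hj'] at h6
    exact H334.Ore.CoThree.nofix hj h6

theorem card_le : Nat.card ↥Cy ≤ 300 := by
  have hfin : Finite G3 := Cfsg.Agent.H555.TwoSp.finite_G3
  have h5 : Nat.card ↥(Cy ⊓ St 31 ⊓ St 163) ≤ 10 := le_trans step3 (by have := step4; omega)
  have hodd : ¬ 2 ∣ Nat.card ↥(Cy ⊓ St 31 ⊓ St 163) := by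
    intro h
    have := Fact.mk Nat.prime_two
    obtain ⟨x, hx⟩ := exists_prime_orderOf_dvd_card' 2 h
    have h1 := mem_inf.1 x.2
    have h2 := mem_inf.1 h1.1
    have h3 : (x : G3) * (x : G3) = 1 := by
      have h4 := pow_orderOf_eq_one x
      rw [hx, pow_two] at h4
      exact congrArg Subtype.val h4
    refine no_invol h3 ?_ (mem_Cy.1 h2.1) h2.2
    intro h4
    have h6 : x = 1 := Subtype.ext h4
    rw [h6, orderOf_one] at hx
    omega
  have hyf : ∀ b, Nat.beq (ty b) b = true → b < 552 → yy ∈ St b := by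
    intro b hb hb'
    exact (mem_St' pt_y hb').2 (Nat.eq_of_beq_eq_true hb)
  have hy : (Nat.beq (ty 31) 31 && Nat.beq (ty 163) 163) = true := by decide +kernel
  rw [Bool.and_eq_true] at hy
  have hmem : yy ∈ Cy ⊓ St 31 ⊓ St 163 :=
    mem_inf.2 ⟨mem_inf.2 ⟨mem_Cy.2 rfl, hyf 31 hy.1 (by norm_num)⟩, hyf 163 hy.2 (by norm_num)⟩
  have h5d : 5 ∣ Nat.card ↥(Cy ⊓ St 31 ⊓ St 163) := by
    have h1 := Subgroup.orderOf_dvd_natCard _ hmem
    rwa [order_y] at h1
  have h6 : Nat.card ↥(Cy ⊓ St 31 ⊓ St 163) = 5 := by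
    obtain ⟨k, hk⟩ := h5d
    have hk2 : k ≤ 2 := by omega
    have hk0 : 0 < Nat.card ↥(Cy ⊓ St 31 ⊓ St 163) := Nat.card_pos
    interval_cases k
    · omega
    · omega
    · exact (hodd ⟨5, by omega⟩).elim
  have h1 := step1
  have h2 := step2
  omega

/-! ### conjugacy of the elements of order five in the centralizers of the involutions -/

theorem conj_zpowers {K : Type*} [Group K] [Finite K] {p : ℕ} [hp : Fact p.Prime] (h : ¬ p ^ 2 ∣ Nat.card K) {x y : K}
    (hx : orderOf x = p) (hy : orderOf y = p) : ∃ g : K, g * x * g⁻¹ ∈ Subgroup.zpowers y := by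
  have key : ∀ x : K, orderOf x = p → ∃ P : Sylow p K, (P : Subgroup K) = Subgroup.zpowers x := by
    intro x hx
    have h1 : IsPGroup p (Subgroup.zpowers x) := IsPGroup.of_card (n := 1) (by rw [Nat.card_zpowers, hx, pow_one])
    obtain ⟨P, hP⟩ := h1.exists_le_sylow
    refine ⟨P, (Subgroup.eq_of_le_of_card_ge hP ?_).symm⟩
    obtain ⟨n, hn⟩ := IsPGroup.iff_card.1 P.isPGroup'
    have h2 : n < 2 := by
      by_contra hcon
      push Not at hcon
      exact h ((pow_dvd_pow p hcon).trans (hn ▸ Subgroup.card_subgroup_dvd_card _))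
    rw [hn, Nat.card_zpowers, hx]
    calc p ^ n ≤ p ^ 1 := Nat.pow_le_pow_right hp.out.pos (by omega)
      _ = p := pow_one p
  obtain ⟨P, hP⟩ := key x hx
  obtain ⟨Q, hQ⟩ := key y hy
  obtain ⟨g, hg⟩ := MulAction.exists_smul_eq K P Q
  refine ⟨g, ?_⟩
  rw [← hQ, ← hg, Sylow.coe_subgroup_smul, hP]
  exact ⟨x, Subgroup.mem_zpowers x, rfl⟩

/-- any two elements of order five commuting with `t` are conjugate by an element commuting with `t` -/
def FiveT (t : G3) : Prop := ∀ x x' : G3, orderOf x = 5 → orderOf x' = 5 → x * t = t * x → x' * t = t * x' →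
  ∃ g : G3, g * t = t * g ∧ g * x * g⁻¹ = x'

theorem FiveT.conj {t : G3} (h : FiveT t) (k : G3) : FiveT (k * t * k⁻¹) := by
  have ho : ∀ x : G3, orderOf x = 5 → orderOf (k⁻¹ * x * k) = 5 := by
    intro x hx
    have : orderOf (k⁻¹ * x * k) = orderOf x := by simpa using MulEquiv.orderOf_eq (MulAut.conj k⁻¹) x
    rw [this, hx]
  have hc : ∀ x : G3, x * (k * t * k⁻¹) = k * t * k⁻¹ * x → (k⁻¹ * x * k) * t = t * (k⁻¹ * x * k) := by
    intro x hx
    calc (k⁻¹ * x * k) * t = k⁻¹ * (x * (k * t * k⁻¹)) * k := by group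
      _ = k⁻¹ * (k * t * k⁻¹ * x) * k := by rw [hx]
      _ = _ := by group
  intro x x' hx hx' hxt hxt'
  obtain ⟨g, hg, hg'⟩ := h _ _ (ho x hx) (ho x' hx') (hc x hxt) (hc x' hxt')
  refine ⟨k * g * k⁻¹, ?_, ?_⟩
  · calc k * g * k⁻¹ * (k * t * k⁻¹) = k * (g * t) * k⁻¹ := by group
      _ = k * (t * g) * k⁻¹ := by rw [hg]
      _ = _ := by group
  · calc k * g * k⁻¹ * x * (k * g * k⁻¹)⁻¹ = k * (g * (k⁻¹ * x * k) * g⁻¹) * k⁻¹ := by group
      _ = k * (k⁻¹ * x' * k) * k⁻¹ := by rw [hg']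
      _ = x' := by group

/-- the powers of `yy` -/
theorem y_pows (n : ℕ) : rr ^ n * yy * (rr ^ n)⁻¹ = yy ^ (2 ^ n) := by
  induction n with
  | zero => simp
  | succ n ih =>
    have h1 : rr ^ (n + 1) * yy * (rr ^ (n + 1))⁻¹ = rr * (rr ^ n * yy * (rr ^ n)⁻¹) * rr⁻¹ := by
      rw [pow_succ']; group
    rw [h1, ih, ← conj_pow, ry, ← pow_mul, pow_succ']

theorem r_pow_a (n : ℕ) : rr ^ n * aa = aa * rr ^ n := ((show Commute rr aa from ra).pow_left n).eq

/-- the powers of `yy` are conjugate to `yy` by elements commuting with `aa` -/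
theorem y_all (k : ℕ) (hk : ¬ 5 ∣ k) : ∃ g : G3, g * aa = aa * g ∧ g * yy * g⁻¹ = yy ^ k := by
  have h1 : ∃ n : ℕ, 2 ^ n % 5 = k % 5 := by
    have h2 : k % 5 = 1 ∨ k % 5 = 2 ∨ k % 5 = 3 ∨ k % 5 = 4 := by omega
    rcases h2 with h | h | h | h
    · exact ⟨0, by rw [h]; rfl⟩
    · exact ⟨1, by rw [h]; rfl⟩
    · exact ⟨3, by rw [h]; rfl⟩
    · exact ⟨2, by rw [h]; rfl⟩
  obtain ⟨n, hn⟩ := h1
  refine ⟨rr ^ n, r_pow_a n, ?_⟩
  rw [y_pows]
  exact pow_inj_mod.2 (by rw [order_y]; exact hn)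

theorem fiveT_a : FiveT aa := by
  have hfin : Finite G3 := Cfsg.Agent.H555.TwoSp.finite_G3
  have := Fact.mk Nat.prime_five
  have ha := four.1
  have hcard : ¬ 5 ^ 2 ∣ Nat.card ↥(centralizer ({aa} : Set G3)) := by
    intro h
    have hn := nf'
    rw [Bool.and_eq_true, Bool.and_eq_true, Bool.and_eq_true] at hn
    obtain ⟨g, hg | hg⟩ := inv_cases (Cfsg.Agent.H791.SK.Co3.orderOf_eq_two a_sq ha)
    · exact nf_not_Z hn.1.1.1 hg
    · have h1 := H945.Wk.Co3.card_cent_conj g⁻¹ aa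
      rw [inv_inv, hg] at h1
      rw [← h1] at h
      have h2 := h.trans H334.Ore.CoThree.card_dvd
      norm_num at h2
  have key : ∀ x : G3, orderOf x = 5 → x * aa = aa * x → ∃ g : G3, g * aa = aa * g ∧ g * x * g⁻¹ = yy := by
    intro x hx hxa
    have mx : x ∈ centralizer ({aa} : Set G3) := mem_centralizer_singleton_iff.2 hxa
    have my : yy ∈ centralizer ({aa} : Set G3) := mem_centralizer_singleton_iff.2 ay.symm
    obtain ⟨c, hc⟩ := conj_zpowers (p := 5) hcard (x := ⟨x, mx⟩) (y := ⟨yy, my⟩)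
      (by rw [Subgroup.orderOf_mk]; exact hx) (by rw [Subgroup.orderOf_mk]; exact order_y)
    have hc' := mem_centralizer_singleton_iff.1 c.2
    obtain ⟨k, hk⟩ := Subgroup.mem_zpowers_iff.1 hc
    have hk1 : (c : G3) * x * (c : G3)⁻¹ = yy ^ k := (congrArg Subtype.val hk).symm
    have hk2 : yy ^ k = yy ^ (k % 5).toNat := by
      rw [← zpow_natCast, Int.toNat_of_nonneg (Int.emod_nonneg _ (by norm_num))]
      have h6 := zpow_mod_orderOf yy k
      rw [order_y] at h6
      exact h6.symm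
    have hk3 : ¬ 5 ∣ (k % 5).toNat := by
      intro h5
      obtain ⟨m, hm⟩ := h5
      rw [hm, pow_mul, y_pow, one_pow] at hk2
      rw [hk2] at hk1
      have : x = 1 := by
        calc x = (c : G3)⁻¹ * ((c : G3) * x * (c : G3)⁻¹) * c := by group
          _ = 1 := by rw [hk1]; group
      rw [this, orderOf_one] at hx
      omega
    obtain ⟨r, hr, hr'⟩ := y_all _ hk3
    refine ⟨r⁻¹ * c, ?_, ?_⟩
    · have e1 : r⁻¹ * aa = aa * r⁻¹ := ((show Commute r aa from hr).inv_left).eq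
      rw [mul_assoc, hc', ← mul_assoc, e1, mul_assoc]
    · calc r⁻¹ * c * x * (r⁻¹ * c)⁻¹ = r⁻¹ * ((c : G3) * x * (c : G3)⁻¹) * r := by group
        _ = r⁻¹ * (r * yy * r⁻¹) * r := by rw [hk1, hk2, hr']
        _ = yy := by group
  intro x x' hx hx' hxt hxt'
  obtain ⟨g, hg, hg'⟩ := key x hx hxt
  obtain ⟨k, hk, hk'⟩ := key x' hx' hxt'
  refine ⟨k⁻¹ * g, ?_, ?_⟩
  · have e1 : k⁻¹ * aa = aa * k⁻¹ := ((show Commute k aa from hk).inv_left).eq
    rw [mul_assoc, hg, ← mul_assoc, e1, mul_assoc]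
  · calc k⁻¹ * g * x * (k⁻¹ * g)⁻¹ = k⁻¹ * (g * x * g⁻¹) * k := by group
      _ = k⁻¹ * (k * x' * k⁻¹) * k := by rw [hg', hk']
      _ = x' := by group

/-- the elements without fixed rows are conjugate to `w` -/
theorem conj_w {w : G3} (hd : CTwoTab.Co3.Data G3 Spor.M12 Z w) {u : List ℕ} (hu : nf u = true)
    (h2 : val u * val u = 1) : IsConj w (val u) := by
  obtain ⟨g, hg | hg⟩ := hd.cls _ (Cfsg.Agent.H791.SK.Co3.orderOf_eq_two h2 (ne_one_of_nf hu))
  · exact (nf_not_Z hu (g := g) (by rw [hg]; group)).elim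
  · exact isConj_iff.2 ⟨g, hg.symm⟩

/-- `t * y` is conjugate to `t' * y` for conjugate `t`, `t'` commuting with `y` -/
theorem conj_mul {t t' y : G3} (h : FiveT t') (hc : IsConj t t') (hy : orderOf y = 5) (h1 : t * y = y * t)
    (h2 : t' * y = y * t') : IsConj (t * y) (t' * y) := by
  obtain ⟨k, hk⟩ := isConj_iff.1 hc
  have ho : orderOf (k * y * k⁻¹) = 5 := by rw [H945.Wk.Co3.orderOf_conj, hy]
  have h3 : (k * y * k⁻¹) * t' = t' * (k * y * k⁻¹) := by
    rw [← hk]
    calc k * y * k⁻¹ * (k * t * k⁻¹) = k * (y * t) * k⁻¹ := by group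
      _ = k * (t * y) * k⁻¹ := by rw [h1]
      _ = _ := by group
  obtain ⟨g, hg, hg'⟩ := h _ _ ho hy h3 h2.symm
  refine isConj_iff.2 ⟨g * k, ?_⟩
  calc g * k * (t * y) * (g * k)⁻¹ = g * ((k * t * k⁻¹) * (k * y * k⁻¹)) * g⁻¹ := by group
    _ = (g * t') * (k * y * k⁻¹) * g⁻¹ := by rw [hk]; group
    _ = t' * (g * (k * y * k⁻¹) * g⁻¹) := by rw [hg]; group
    _ = t' * y := by rw [hg']

/-- **Q3**: the element of order five with centralizer `5 × A₅`. -/
theorem Q3 {w : G3} (hd : CTwoTab.Co3.Data G3 Spor.M12 Z w) : ∃ y a b : G3, orderOf y = 5 ∧ orderOf a = 2 ∧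
    orderOf b = 2 ∧ a ≠ b ∧ a * b = b * a ∧ a * y = y * a ∧ b * y = y * b ∧ IsConj w a ∧ IsConj w b ∧
    IsConj w (a * b) ∧ IsConj (a * y) (b * y) ∧ IsConj (a * y) (a * b * y) ∧
    (∀ k : ℕ, ¬ 5 ∣ k → ∃ g : G3, g * a = a * g ∧ g * y * g⁻¹ = y ^ k) ∧
    Nat.card ↥(centralizer ({y} : Set G3)) ≤ 300 := by
  have hn := nf'
  rw [Bool.and_eq_true, Bool.and_eq_true, Bool.and_eq_true] at hn
  obtain ⟨⟨⟨n1, n2⟩, n3⟩, -⟩ := hn
  obtain ⟨ha, hb, hab⟩ := four
  have sab : aa * bb * (aa * bb) = 1 := by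
    calc aa * bb * (aa * bb) = aa * (bb * aa) * bb := by group
      _ = aa * (aa * bb) * bb := by rw [ab]
      _ = (aa * aa) * (bb * bb) := by group
      _ = 1 := by rw [a_sq, b_sq, mul_one]
  have ca : IsConj w aa := conj_w hd n1 a_sq
  have cb : IsConj w bb := conj_w hd n2 b_sq
  have cab : IsConj w (aa * bb) := by
    have h1 := conj_w hd n3 (by rw [val_append]; exact sab)
    rwa [val_append] at h1
  have aby : aa * bb * yy = yy * (aa * bb) := by
    rw [mul_assoc, by', ← mul_assoc, ay, mul_assoc]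
  have fb : FiveT bb := by
    obtain ⟨k, hk⟩ := isConj_iff.1 (ca.symm.trans cb)
    rw [← hk]
    exact fiveT_a.conj k
  have fab : FiveT (aa * bb) := by
    obtain ⟨k, hk⟩ := isConj_iff.1 (ca.symm.trans cab)
    rw [← hk]
    exact fiveT_a.conj k
  refine ⟨yy, aa, bb, order_y, Cfsg.Agent.H791.SK.Co3.orderOf_eq_two a_sq ha,
    Cfsg.Agent.H791.SK.Co3.orderOf_eq_two b_sq hb, ?_, ab, ay, by', ca, cb, cab, ?_, ?_, y_all, card_le⟩
  · intro h
    apply hab
    rw [← h]
    exact a_sq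
  · exact conj_mul fb (ca.symm.trans cb) order_y ay by'
  · exact conj_mul fab (ca.symm.trans cab) order_y ay aby

end Cfsg.Agent.H921.KKL.CoThreeFive
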